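import Cfsg.Agent.HigmanFPF.Eigen

/-!
The Lie ring of a `p`-group with an automorphism of order `p` and few fixed points.
-/

set_option autoImplicit false

namespace Cfsg.Agent.AlperinBound

open Subgroup TensorProduct HigmanFPF
open scoped commutatorElement

variable {G : Type*} [Group G] [Finite G] {p : ℕ} [hp : Fact p.Prime] (α : MulAut G)

omit [Fact p.Prime] in
/-- The elements fixed modulo `N` are at most the product of the fixed points and `N`. -/
theorem card_fixedMod_le {S : Set G} (N : Subgroup G) (hS : ∀ h ∈ S, h⁻¹ * α h ∈ N) :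
    Nat.card S ≤ Nat.card N * Nat.card {g : G // α g = g} := by
  classical
  let d : S → N := fun h => ⟨(h : G)⁻¹ * α h, hS h h.2⟩
  have hsel : ∀ y : Set.range d, ∃ h : S, d h = y := fun y => y.2
  choose sel hsel using hsel
  let f : S → N × {g : G // α g = g} := fun h => (d h, ⟨(h : G) * (sel ⟨d h, h, rfl⟩ : G)⁻¹, by
    have h1 : (sel ⟨d h, h, rfl⟩ : G)⁻¹ * α (sel ⟨d h, h, rfl⟩ : G) = (h : G)⁻¹ * α h :=
      congrArg Subtype.val (hsel ⟨d h, h, rfl⟩)
    set k : G := (sel ⟨d h, h, rfl⟩ : G)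
    rw [map_mul, map_inv, show α k = k * ((h : G)⁻¹ * α h) by rw [← h1, mul_inv_cancel_left]]
    group⟩)
  have hf : Function.Injective f := by
    intro a b hab
    have h1 : d a = d b := congrArg Prod.fst hab
    have h2 : (a : G) * (sel ⟨d a, a, rfl⟩ : G)⁻¹ = (b : G) * (sel ⟨d b, b, rfl⟩ : G)⁻¹ :=
      congrArg (fun z : N × {g : G // α g = g} => (z.2 : G)) hab
    have h3 : (⟨d a, a, rfl⟩ : Set.range d) = ⟨d b, b, rfl⟩ := Subtype.ext h1
    rw [h3] at h2
    exact Subtype.ext (mul_right_cancel h2)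
  rw [← Nat.card_prod]
  exact Nat.card_le_card_of_injective f hf

theorem pow_fac_eq_one (hG : IsPGroup p G) {e : ℕ} (hC : Nat.card {g : G // α g = g} ≤ p ^ e) {n : ℕ}
    (y : Fac G n) (hy : facMap α n y = y) : y ^ p ^ e = 1 := by
  classical
  let F : Subgroup (Fac G n) :=
    { carrier := {y | facMap α n y = y}
      one_mem' := map_one _
      mul_mem' := fun {a b} ha hb => by
        show facMap α n (a * b) = a * b
        rw [map_mul, show facMap α n a = a from ha, show facMap α n b = b from hb]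
      inv_mem' := fun {a} ha => by
        show facMap α n a⁻¹ = a⁻¹
        rw [map_inv, show facMap α n a = a from ha] }
  have hp' : IsPGroup p F := ((hG.to_subgroup _).to_quotient _).to_subgroup F
  set N := nxt G n
  let S : Set G := {g | ∃ h : g ∈ lcs G n, ((⟨g, h⟩ : lcs G n) : Fac G n) ∈ F}
  have hS : ∀ g ∈ S, g⁻¹ * α g ∈ lcs G (n + 1) := by
    rintro g ⟨h, hg⟩
    have h1 := QuotientGroup.eq.mp (show ((⟨g, h⟩ : lcs G n) : Fac G n) =
      ((⟨α g, map_mem_lcs α h⟩ : lcs G n) : Fac G n) from (show facMap α n _ = _ from hg).symm)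
    simpa using mem_subgroupOf.mp h1
  have hcardS : Nat.card S = Nat.card F * Nat.card (lcs G (n + 1)) := by
    have e1 : S ≃ (F.comap (QuotientGroup.mk' N)) :=
      { toFun := fun g => ⟨⟨g, g.2.1⟩, g.2.2⟩
        invFun := fun g => ⟨g.1, g.1.2, g.2⟩
        left_inv := fun g => rfl
        right_inv := fun g => rfl }
    rw [Nat.card_congr e1, ← card_mul_index (N.subgroupOf (F.comap (QuotientGroup.mk' N)))]
    rw [show (N.subgroupOf (F.comap (QuotientGroup.mk' N))).index = Nat.card F by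
      show N.relIndex _ = _
      conv_lhs => arg 1; rw [← QuotientGroup.ker_mk' N]
      rw [relIndex_ker, map_comap_eq_self_of_surjective (QuotientGroup.mk'_surjective N)]]
    rw [Nat.card_congr (subgroupOfEquivOfLe (show N ≤ F.comap (QuotientGroup.mk' N) from fun x hx => by
        rw [mem_comap, show QuotientGroup.mk' N x = 1 from (QuotientGroup.eq_one_iff x).mpr hx]; exact F.one_mem)).toEquiv,
      Nat.card_congr (subgroupOfEquivOfLe (lcs_antitone (G := G) (Nat.le_succ n))).toEquiv, mul_comm]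
  have h1 := card_fixedMod_le α (lcs G (n + 1)) hS
  rw [hcardS, mul_comm (Nat.card (lcs G (n + 1)))] at h1
  have h2 : Nat.card F ≤ p ^ e := (Nat.le_of_mul_le_mul_right h1 Nat.card_pos).trans hC
  obtain ⟨j, hj⟩ := IsPGroup.iff_card.1 hp'
  rw [hj] at h2
  have hje : j ≤ e := (Nat.pow_le_pow_iff_right hp.out.one_lt).1 h2
  have h3 : (⟨y, hy⟩ : F) ^ p ^ e = 1 := by
    rw [← orderOf_dvd_iff_pow_eq_one]
    exact (_root_.orderOf_dvd_natCard _).trans (hj ▸ pow_dvd_pow p hje)
  exact congrArg Subtype.val h3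

theorem grMap_fixed_nsmul (hG : IsPGroup p G) {e : ℕ} (hC : Nat.card {g : G // α g = g} ≤ p ^ e)
    (x : GrLie G) (hx : grMap α x = x) : (p ^ e) • x = 0 := by
  refine DirectSum.ext_component ℤ fun n => ?_
  have hc : ∀ y : GrLie G, (grMap α y) n = Additive.ofMul (facMap α n (Additive.toMul (y n))) := by
    intro y
    induction y using DirectSum.induction_on with
    | zero => simp
    | of m a =>
      rw [grMap, DirectSum.toAddMonoid_of]
      by_cases h : m = n
      · subst h
        simp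
      · simp [DirectSum.of_eq_of_ne _ _ _ (Ne.symm h)]
    | add y z hy hz => rw [map_add, DirectSum.add_apply, DirectSum.add_apply, hy, hz, toMul_add, map_mul, ofMul_mul]
  have h := hc x
  rw [hx] at h
  have h2 := pow_fac_eq_one α hG hC (Additive.toMul (x n)) (congrArg Additive.toMul h).symm
  show ((p ^ e) • x) n = (0 : GrLie G) n
  rw [DirectSum.zero_apply, DirectSum.smul_apply, ← ofMul_toMul (x n), ← ofMul_pow, h2, ofMul_one]

theorem eig_zero_nsmul (hG : IsPGroup p G) {e : ℕ} (hC : Nat.card {g : G // α g = g} ≤ p ^ e) {x : Ext G p}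
    (hx : x ∈ eig α p (0 : ZMod p)) : (p ^ e) • x = 0 := by
  classical
  have h1 : extMap α p x = x := by simpa [mem_eig, root'_zero] using hx
  let pb := AdjoinRoot.powerBasis' (Polynomial.cyclotomic.monic p ℤ)
  set E := TensorProduct.equivFinsuppOfBasisLeft (R := ℤ) (M := Cyc p) (N := GrLie G) pb.basis with hE
  have hcomm : ∀ (y : Ext G p) i, E (extMap α p y) i = grMap α (E y i) := by
    intro y i
    induction y using TensorProduct.induction_on with
    | zero => simp
    | tmul c u =>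
      rw [extMap_tmul, hE, TensorProduct.equivFinsuppOfBasisLeft_apply_tmul_apply,
        TensorProduct.equivFinsuppOfBasisLeft_apply_tmul_apply, map_zsmul]
    | add y z hy hz => simp only [map_add, Finsupp.add_apply, hy, hz]
  refine E.injective (Finsupp.ext fun i => ?_)
  rw [map_zero, map_nsmul, Finsupp.smul_apply, Finsupp.zero_apply]
  exact grMap_fixed_nsmul α hG hC _ (by rw [← hcomm, h1])

/-- The components multiplied by a power of `p`. -/
noncomputable def scaled (p e : ℕ) [Fact p.Prime] (a : ZMod p) : AddSubgroup (Ext G p) :=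
  (eig α p a).map (nsmulAddMonoidHom (p ^ e))

theorem mem_scaled {e : ℕ} {a : ZMod p} {x : Ext G p} :
    x ∈ scaled α p e a ↔ ∃ y ∈ eig α p a, (p ^ e) • y = x := AddSubgroup.mem_map

theorem isFree_scaled (hG : IsPGroup p G) {e : ℕ} (hC : Nat.card {g : G // α g = g} ≤ p ^ e) :
    IsFree (fun a : ZMod p => scaled α p e a) := by
  refine ⟨?_, fun {i j x y} hx hy => ?_⟩
  · rw [eq_bot_iff]
    intro x hx
    obtain ⟨y, hy, rfl⟩ := (mem_scaled α).1 hx
    rw [eig_zero_nsmul α hG hC hy]
    exact zero_mem _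
  · obtain ⟨x', hx', rfl⟩ := (mem_scaled α).1 hx
    obtain ⟨y', hy', rfl⟩ := (mem_scaled α).1 hy
    refine (mem_scaled α).2 ⟨(p ^ e) • ⁅x', y'⁆, AddSubgroup.nsmul_mem _ ?_ _, ?_⟩
    · rw [mem_eig] at hx' hy' ⊢
      rw [extMap_lie, hx', hy', xsmul_lie, xlie_smul, smul_smul, ← root'_add]
    · rw [nsmul_lie, lie_nsmul]

/-- Higman's bound up to exponent. -/
theorem pow_mem_lcs_succ (hG : IsPGroup p G) (hα : α ^ p = 1) {e : ℕ}
    (hC : Nat.card {g : G // α g = g} ≤ p ^ e) {g : G}
    (hg : g ∈ lcs G (classBound p (2 ^ (p - 1) - 1))) :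
    g ^ p ^ ((e + 1) * (classBound p (2 ^ (p - 1) - 1) + 1)) ∈ lcs G (classBound p (2 ^ (p - 1) - 1) + 1) := by
  set W := fun a : ZMod p => scaled α p e a with hW
  have hall : ∀ x : Ext G p, (p ^ (e + 1)) • x ∈ ⨆ a : ZMod p, lser W 0 a := by
    intro x
    rw [pow_succ, mul_nsmul', ← sum_proj α x, Finset.smul_sum]
    exact AddSubgroup.sum_mem _ fun a _ => AddSubgroup.mem_iSup_of_mem a
      ((mem_scaled α).2 ⟨_, proj_mem α hα a x, rfl⟩)
  have hmain : ∀ n : ℕ, ∀ g ∈ lcs G n,
      (p ^ ((e + 1) * (n + 1))) • ((1 : Cyc p) ⊗ₜ[ℤ] io n g) ∈ ⨆ a : ZMod p, lser W n a := by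
    intro n
    induction n with
    | zero => intro g _; rw [Nat.zero_add, mul_one]; exact hall _
    | succ n ih =>
      intro g hg
      set S := ⨆ a : ZMod p, lser W (n + 1) a
      set M := p ^ ((e + 1) * (n + 1 + 1)) with hM
      suffices h : g ∈ lcs G (n + 1) ∧ M • ((1 : Cyc p) ⊗ₜ[ℤ] io (n + 1) g) ∈ S from h.2
      have hg' : g ∈ Subgroup.closure {z | ∃ x ∈ lcs G n, ∃ y ∈ (⊤ : Subgroup G), ⁅x, y⁆ = z} := by
        rw [← Subgroup.commutator_def]
        exact hg
      clear hg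
      induction hg' using Subgroup.closure_induction with
      | mem z hz =>
        obtain ⟨x, hx, y, -, rfl⟩ := hz
        refine ⟨comm_top hx y, ?_⟩
        rw [← show ⁅(1 : Cyc p) ⊗ₜ[ℤ] io n x, (1 : Cyc p) ⊗ₜ[ℤ] io 0 y⁆ = (1 : Cyc p) ⊗ₜ[ℤ] io (n + 1) ⁅x, y⁆ by
          rw [LieAlgebra.ExtendScalars.bracket_tmul, mul_one, lie_io hx (Subgroup.mem_top y)]]
        have hu := ih x hx
        have hv := hall ((1 : Cyc p) ⊗ₜ[ℤ] io 0 y)
        have hb : ∀ (a b : ℕ) (u v : Ext G p), ⁅a • u, b • v⁆ = (a * b) • ⁅u, v⁆ := fun a b u v => by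
          rw [nsmul_lie, lie_nsmul, mul_nsmul']
        rw [show M = p ^ ((e + 1) * (n + 1)) * p ^ (e + 1) by rw [hM, ← pow_add]; ring_nf, ← hb]
        generalize (p ^ ((e + 1) * (n + 1))) • ((1 : Cyc p) ⊗ₜ[ℤ] io n x) = u at hu ⊢
        generalize (p ^ (e + 1)) • ((1 : Cyc p) ⊗ₜ[ℤ] io 0 y) = v at hv ⊢
        refine AddSubgroup.iSup_induction _ (C := fun u => ⁅u, v⁆ ∈ S) hu (fun i u hu => ?_)
          (by simp only [xzero_lie, zero_mem]) (fun u u' h h' => by rw [xadd_lie]; exact add_mem h h')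
        refine AddSubgroup.iSup_induction _ (C := fun v => ⁅u, v⁆ ∈ S) hv (fun j v hv => ?_)
          (by simp only [xlie_zero, zero_mem]) (fun u u' h h' => by rw [xlie_add]; exact add_mem h h')
        exact AddSubgroup.mem_iSup_of_mem (i + j) (mem_fbr hu hv)
      | one =>
        refine ⟨one_mem _, ?_⟩
        rw [io_one, TensorProduct.tmul_zero, smul_zero]
        exact zero_mem _
      | mul a b _ _ ha hb =>
        refine ⟨mul_mem ha.1 hb.1, ?_⟩
        rw [io_mul ha.1 hb.1, TensorProduct.tmul_add, smul_add]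
        exact add_mem ha.2 hb.2
      | inv a _ ha =>
        refine ⟨inv_mem ha.1, ?_⟩
        rw [io_inv ha.1, TensorProduct.tmul_neg, smul_neg]
        exact neg_mem ha.2
  have hfree := isFree_scaled α hG hC
  have hzero := lser_eq_bot _ W hfree (dser_eq_bot hfree)
  set h := classBound p (2 ^ (p - 1) - 1) with hh
  have hx := hmain h g hg
  simp only [hzero, iSup_bot, AddSubgroup.mem_bot] at hx
  set k := p ^ ((e + 1) * (h + 1))
  refine mem_of_io_eq_zero ((lcs G h).pow_mem hg k) ?_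
  have hpow : ∀ j : ℕ, io h (g ^ j) = j • io h g := by
    intro j
    induction j with
    | zero => simp [io_one]
    | succ j ih => rw [pow_succ, io_mul ((lcs G h).pow_mem hg j) hg, ih, succ_nsmul]
  rw [hpow]
  rw [TensorProduct.smul_tmul', TensorProduct.smul_tmul] at hx
  let pb := AdjoinRoot.powerBasis' (Polynomial.cyclotomic.monic p ℤ)
  have hdim : 0 < pb.dim := by
    rw [AdjoinRoot.powerBasis'_dim, Polynomial.natDegree_cyclotomic]
    exact Nat.totient_pos.mpr hp.out.pos
  let r : Cyc p →ₗ[ℤ] ℤ := pb.basis.coord ⟨0, hdim⟩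
  have hr : r 1 = 1 := by
    have : pb.basis ⟨0, hdim⟩ = 1 := by rw [pb.basis_eq_pow]; simp
    rw [← this, Module.Basis.coord_apply, Module.Basis.repr_self, Finsupp.single_eq_same]
  have := congrArg (fun t => TensorProduct.lid ℤ (GrLie G) (LinearMap.rTensor (GrLie G) r t)) hx
  simpa [hr] using this

end Cfsg.Agent.AlperinBound
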