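import Cfsg.Agent.AlperinBound.Series
import Cfsg.Agent.S3779
import Cfsg.Agent.S4218
import Cfsg.Agent.Fusion.SolvablePSolvable
import Mathlib.GroupTheory.SemidirectProduct

/-!
A solvable group with an automorphism of order `p` and few fixed points has bounded derived length.
-/

set_option autoImplicit false

namespace Cfsg.Agent.AlperinBound

open Subgroup HigmanFPF
open scoped commutatorElement

variable {G : Type*} [Group G] {p : ℕ}

/-- The restriction of an automorphism to a characteristic subgroup. -/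
def restrictChar (α : MulAut G) (K : Subgroup G) [K.Characteristic] : MulAut K where
  toFun k := ⟨α k, (Characteristic.fixed inferInstance α).ge k.2⟩
  invFun k := ⟨α.symm k, (Characteristic.fixed inferInstance α.symm).ge k.2⟩
  left_inv k := Subtype.ext (α.symm_apply_apply k)
  right_inv k := Subtype.ext (α.apply_symm_apply k)
  map_mul' a b := Subtype.ext (map_mul α (a : G) b)

theorem coe_restrictChar (α : MulAut G) (K : Subgroup G) [K.Characteristic] (k : K) :
    (restrictChar α K k : G) = α k := rfl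

theorem restrictChar_pow (α : MulAut G) (K : Subgroup G) [K.Characteristic] {m : ℕ} (h : α ^ m = 1) :
    restrictChar α K ^ m = 1 := by
  have hit : ∀ (i : ℕ) (k : K), (((restrictChar α K ^ i) k : K) : G) = (α ^ i) (k : G) := by
    intro i
    induction i with
    | zero => intro k; rfl
    | succ i ih => intro k; rw [pow_succ', pow_succ', MulAut.mul_apply, MulAut.mul_apply, coe_restrictChar, ih]
  refine MulEquiv.ext fun k => Subtype.ext ?_
  rw [hit, h]
  rfl

theorem card_fixed_restrictChar [Finite G] (α : MulAut G) (K : Subgroup G) [K.Characteristic] :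
    Nat.card {k : K // restrictChar α K k = k} ≤ Nat.card {g : G // α g = g} :=
  Nat.card_le_card_of_injective (fun k => ⟨(k : K), congrArg Subtype.val k.2⟩) fun _ _ h =>
    Subtype.ext (Subtype.ext (congrArg (fun z : {g : G // α g = g} => (z : G)) h))

/-- The part of order prime to `p`. -/
theorem derivedSeries_pPrimeCore [Finite G] [hp : Fact p.Prime] (α : MulAut G) (hα : α ^ p = 1) {n : ℕ}
    (hC : Nat.card {g : G // α g = g} = p ^ n) :
    derivedSeries (pPrimeCore p G) (classBound p (2 ^ (p - 1) - 1)) = ⊥ := by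
  set U := pPrimeCore p G with hU
  set β := restrictChar α U with hβ
  have hfpf : ∀ u : U, β u = u → u = 1 := by
    intro u hu
    have h1 : orderOf (u : G) ∣ p ^ n := hC ▸
      Subgroup.orderOf_dvd_natCard (MonoidHom.eqLocus α.toMonoidHom (MonoidHom.id G)) (congrArg Subtype.val hu)
    have h2 : orderOf (u : G) ∣ Nat.card U := Subgroup.orderOf_dvd_natCard U u.2
    exact Subtype.ext (orderOf_eq_one_iff.mp
      (Nat.eq_one_of_dvd_coprimes (Core.coprime_card_pPrimeCore.pow_right n) h2 h1))
  by_cases hb : β = 1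
  · exact eq_bot_iff.2 fun u _ => mem_bot.2 (hfpf u (by rw [hb]; rfl))
  · have h := (S3779.result hp.out β (orderOf_eq_prime (restrictChar_pow α U hα) hb) hfpf).2.2
    rw [classBound_eq]
    exact le_bot_iff.1 ((Subgroup.derived_le_lower_central _).trans h.le)

/-- The `p`-part. -/
theorem derivedSeries_isPGroup {R : Type*} [Group R] [Finite R] [hp : Fact p.Prime] (hR : IsPGroup p R)
    (ρ : MulAut R) (hρ : ρ ^ p = 1) {e : ℕ} (hC : Nat.card {g : R // ρ g = g} ≤ p ^ e) :
    derivedSeries R ((p ^ (e * (p * ((e + 1) * (classBound p (2 ^ (p - 1) - 1) + 1) + 1)))).factorial +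
      (classBound p (2 ^ (p - 1) - 1) + 1)) = ⊥ := by
  set Z := zpowers ρ with hZ
  haveI : Finite (MulAut R) :=
    Finite.of_injective (fun e : MulAut R => e.toEquiv) fun a b h => MulEquiv.toEquiv_injective h
  haveI : Finite (R ⋊[Z.subtype] Z) := Finite.of_equiv _ SemidirectProduct.equivProd.symm
  have hZp : IsPGroup p Z := by
    rintro ⟨g, hg⟩
    obtain ⟨i, rfl⟩ := mem_zpowers_iff.1 hg
    exact ⟨1, Subtype.ext (by
      show (ρ ^ i) ^ p ^ 1 = 1
      rw [pow_one, ← zpow_natCast, ← zpow_mul, mul_comm, zpow_mul, zpow_natCast, hρ, one_zpow])⟩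
  have hX : IsPGroup p (R ⋊[Z.subtype] Z) := by
    obtain ⟨a, ha⟩ := IsPGroup.iff_card.1 hR
    obtain ⟨b, hb⟩ := IsPGroup.iff_card.1 hZp
    refine IsPGroup.of_card (n := a + b) ?_
    rw [SemidirectProduct.card, ha, hb, pow_add]
  set P : Subgroup (R ⋊[Z.subtype] Z) := (SemidirectProduct.inl : R →* R ⋊[Z.subtype] Z).range with hP
  haveI : P.Normal := by rw [hP, SemidirectProduct.range_inl_eq_ker_rightHom]; infer_instance
  let x0 : R ⋊[Z.subtype] Z := SemidirectProduct.inr ⟨ρ, mem_zpowers ρ⟩
  let e' : R ≃* P := MonoidHom.ofInjective SemidirectProduct.inl_injective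
  have hCP : Nat.card {g : P // MulAut.conjNormal x0 g = g} ≤ p ^ e := by
    refine le_trans (Nat.card_le_card_of_injective (fun g => (⟨e'.symm (g : P), ?_⟩ : {r : R // ρ r = r}))
      fun a b h => Subtype.ext (e'.symm.injective (congrArg Subtype.val h))) hC
    obtain ⟨r, hr⟩ := e'.surjective (g : P)
    rw [← hr, e'.symm_apply_apply]
    refine (SemidirectProduct.inl_injective (φ := Z.subtype)) ?_
    have h1 := congrArg Subtype.val g.2
    rw [MulAut.conjNormal_apply, ← hr] at h1
    exact (SemidirectProduct.inl_aut (φ := Z.subtype) ⟨ρ, mem_zpowers ρ⟩ r).trans (by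
      rw [map_inv]; exact h1)
  have h := derivedSeries_pgroup P hX x0 (by
    rw [← map_pow, show (⟨ρ, mem_zpowers ρ⟩ : Z) ^ p = 1 from Subtype.ext hρ, map_one]
    exact one_mem _) hCP
  rw [← map_derivedSeries_eq e'.symm.surjective (f := e'.symm.toMonoidHom), h, Subgroup.map_bot]

/-- Alperin's theorem. -/
theorem derived_length_bound (hp : p.Prime) (n : ℕ) :
    ∃ l : ℕ, ∀ (G : Type) [Group G] [Finite G], Group.IsSolvable G → ∀ α : MulAut G, orderOf α = p →
      Nat.card {g : G // α g = g} = p ^ n → derivedSeries G l = ⊥ := by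
  haveI : Fact p.Prime := ⟨hp⟩
  set c := classBound p (2 ^ (p - 1) - 1) with hc
  refine ⟨((p ^ (n * (p * 1))).factorial +
    ((p ^ (n * (p * ((n + 1) * (c + 1) + 1)))).factorial + (c + 1))) + c, ?_⟩
  intro G _ _ hsolv α hord hC
  haveI := hsolv
  have hα : α ^ p = 1 := hord ▸ pow_orderOf_eq_one α
  set U := pPrimeCore p G with hU
  refine derivedSeries_quot_add_eq_bot U ?_ (derivedSeries_pPrimeCore α hα hC)
  haveI : Group.IsSolvable (G ⧸ U) := Group.isSolvable_of_surjective (QuotientGroup.mk'_surjective U)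
  let ᾱ : MulAut (G ⧸ U) := QuotientGroup.congr U U α (Core.map_pPrimeCore α)
  have hbar : ∀ x : G, ᾱ (x : G ⧸ U) = ((α x : G) : G ⧸ U) := fun x => rfl
  have hᾱ : ᾱ ^ p = 1 := by
    have hit : ∀ (i : ℕ) (x : G), (ᾱ ^ i) (x : G ⧸ U) = (((α ^ i) x : G) : G ⧸ U) := by
      intro i
      induction i with
      | zero => intro x; rfl
      | succ i ih => intro x; rw [pow_succ', pow_succ', MulAut.mul_apply, MulAut.mul_apply, ih, hbar]
    refine MulEquiv.ext fun q => ?_
    induction q using QuotientGroup.induction_on with | _ x => ?_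
    rw [hit, hα]
    rfl
  have hCbar : Nat.card {g : G ⧸ U // ᾱ g = g} ≤ p ^ n := by
    have h1 := card_fixedMod_le α U (S := QuotientGroup.mk ⁻¹' {g : G ⧸ U | ᾱ g = g}) fun h hh =>
      QuotientGroup.eq.mp ((hbar h).symm.trans (show ᾱ (h : G ⧸ U) = h from hh)).symm
    rw [Nat.card_congr (QuotientGroup.preimageMkEquivSubgroupProdSet U _), Nat.card_prod, hC] at h1
    exact Nat.le_of_mul_le_mul_left h1 Nat.card_pos
  set R := pCore p (G ⧸ U) with hR
  have hRp : IsPGroup p R := Core.pCore_isPGroup
  haveI : Group.IsNilpotent R := hRp.isNilpotent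
  set ρ := restrictChar ᾱ R with hρdef
  have hρ : ρ ^ p = 1 := restrictChar_pow ᾱ R hᾱ
  have hCR : Nat.card {g : R // ρ g = g} ≤ p ^ n := (card_fixed_restrictChar ᾱ R).trans hCbar
  refine derivedSeries_add_eq_bot R ?_ (derivedSeries_isPGroup hRp ρ hρ hCR)
  set Φ : Subgroup (G ⧸ U) := (frattini R).map R.subtype with hΦ
  haveI : Φ.Normal := ConjAct.normal_of_characteristic_of_normal
  set A := R.map (QuotientGroup.mk' Φ) with hA
  haveI : A.Normal := Normal.map inferInstance _ (QuotientGroup.mk'_surjective Φ)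
  have hcard : Nat.card A ≤ p ^ (n * (p * 1)) := by
    have h1 := relIndex_le_of_section ρ hρ hCR (⊤ : Subgroup R) (frattini R) le_top (fun _ _ => mem_top _)
      (fun h hh => (Characteristic.fixed (H := frattini R) inferInstance ρ).ge hh) (t := 1)
      Core.commutator_le_frattini (fun h _ => by rw [pow_one]; exact Core.pow_mem_frattini hRp h)
    rw [relIndex_top_right] at h1
    refine le_trans (le_of_eq ?_) h1
    rw [hA, ← relIndex_ker, QuotientGroup.ker_mk']
    show (Φ.subgroupOf R).index = _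
    rw [hΦ, subgroupOf, comap_map_eq_self_of_injective R.subtype_injective]
  let φ : G ⧸ U →* MulAut A := (MulAut.conjNormal (H := A)).comp (QuotientGroup.mk' Φ)
  refine (derivedSeries_le_ker φ (card_perm_le hcard)).trans fun g hg => ?_
  refine (S4218.aux (Layer.pCoreSelfCentral_of_isPSolvable (Fusion.isPSolvable_of_isSolvable (G ⧸ U))
    Core.pPrimeCore_quotient_eq_bot) g).1 fun x hx => ?_
  have h1 : ((MulAut.conjNormal (QuotientGroup.mk' Φ g) ⟨_, mem_map_of_mem _ hx⟩ : A) : (G ⧸ U) ⧸ Φ) =
      QuotientGroup.mk' Φ x := congrArg Subtype.val (DFunLike.congr_fun (MonoidHom.mem_ker.1 hg) ⟨_, mem_map_of_mem _ hx⟩)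
  rw [MulAut.conjNormal_apply] at h1
  refine (QuotientGroup.eq_one_iff _).1 ?_
  rw [← QuotientGroup.mk'_apply, map_mul, map_mul, map_mul, map_inv, map_inv, h1, mul_inv_cancel]

end Cfsg.Agent.AlperinBound
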