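import Cfsg.Agent.AlperinBound.Lie
import Cfsg.Agent.Core.Solvable
import Cfsg.Agent.Core.Frattini

/-!
A `p`-group with an automorphism of order `p` and few fixed points has bounded derived length.
-/

set_option autoImplicit false

namespace Cfsg.Agent.AlperinBound

open Subgroup HigmanFPF
open scoped commutatorElement

/-- A solvable group of order at most `L` has derived length at most `L`. -/
theorem derivedSeries_eq_bot_of_card {G : Type*} [Group G] [Finite G] [Group.IsSolvable G] {L : ℕ}
    (h : Nat.card G ≤ L) : derivedSeries G L = ⊥ := by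
  have key : ∀ i, derivedSeries G i = ⊥ ∨ Nat.card (derivedSeries G i) + i ≤ L := by
    intro i
    induction i with
    | zero => right; rw [derivedSeries_zero, card_top, Nat.add_zero]; exact h
    | succ i ih =>
      by_cases hb : derivedSeries G i = ⊥
      · left; rw [derivedSeries_succ, hb]; exact commutator_bot_left _
      · right
        have hlt := Group.IsSolvable.commutator_lt_of_ne_bot hb
        rw [← derivedSeries_succ] at hlt
        have h1 : Nat.card (derivedSeries G (i + 1)) < Nat.card (derivedSeries G i) :=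
          lt_of_le_of_ne (card_le_of_le hlt.le) fun he => hlt.ne (eq_of_le_of_card_ge hlt.le he.ge)
        have h2 := ih.resolve_left hb
        omega
  rcases key L with h1 | h1
  · exact h1
  · have : 0 < Nat.card (derivedSeries G L) := Nat.card_pos
    omega

/-- A homomorphism into a bounded solvable group kills a bounded derived term. -/
theorem derivedSeries_le_ker {G H : Type*} [Group G] [Finite G] [Group.IsSolvable G] [Group H] [Finite H]
    (f : G →* H) {L : ℕ} (h : Nat.card H ≤ L) : derivedSeries G L ≤ f.ker := by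
  have hs : Group.IsSolvable f.range := Group.isSolvable_of_surjective f.rangeRestrict_surjective
  have h1 := derivedSeries_eq_bot_of_card (G := f.range) (L := L)
    ((card_le_card_group f.range).trans h)
  rw [← map_derivedSeries_eq f.rangeRestrict_surjective, Subgroup.map_eq_bot_iff,
    MonoidHom.ker_rangeRestrict] at h1
  exact h1

theorem derivedSeries_add_le {G : Type*} [Group G] (N : Subgroup G) {a : ℕ} (h : derivedSeries G a ≤ N) :
    ∀ b, derivedSeries G (a + b) ≤ (derivedSeries N b).map N.subtype := by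
  intro b
  induction b with
  | zero => rw [Nat.add_zero, derivedSeries_zero, ← MonoidHom.range_eq_map, range_subtype]; exact h
  | succ b ih => rw [← Nat.add_assoc, derivedSeries_succ, derivedSeries_succ, map_commutator]; exact commutator_mono ih ih

theorem derivedSeries_add_eq_bot {G : Type*} [Group G] (N : Subgroup G) {a b : ℕ}
    (h : derivedSeries G a ≤ N) (h' : derivedSeries N b = ⊥) : derivedSeries G (a + b) = ⊥ :=
  le_bot_iff.1 ((derivedSeries_add_le N h b).trans (by rw [h', Subgroup.map_bot]))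

theorem derivedSeries_quot_add_eq_bot {G : Type*} [Group G] (N : Subgroup G) [N.Normal] {a b : ℕ}
    (h : derivedSeries (G ⧸ N) a = ⊥) (h' : derivedSeries N b = ⊥) : derivedSeries G (a + b) = ⊥ := by
  refine derivedSeries_add_eq_bot N ?_ h'
  rw [← map_derivedSeries_eq (QuotientGroup.mk'_surjective N), Subgroup.map_eq_bot_iff, QuotientGroup.ker_mk'] at h
  exact h

theorem card_perm_le {A : Type*} [Group A] [Finite A] {m : ℕ} (h : Nat.card A ≤ m) :
    Nat.card (MulAut A) ≤ m.factorial := by
  classical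
  haveI := Fintype.ofFinite A
  have h1 : Nat.card (MulAut A) ≤ Nat.card (Equiv.Perm A) :=
    Nat.card_le_card_of_injective (fun e : MulAut A => e.toEquiv) fun a b hab => MulEquiv.toEquiv_injective hab
  refine h1.trans ?_
  rw [Nat.card_eq_fintype_card, Fintype.card_perm, ← Nat.card_eq_fintype_card]
  exact Nat.factorial_le h

section sections

variable {G : Type*} [Group G] [Finite G] {p : ℕ} [hp : Fact p.Prime] (α : MulAut G)

/-- An invariant abelian section of exponent dividing `p ^ t` has bounded order. -/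
theorem relIndex_le_of_section (hα : α ^ p = 1) {e : ℕ} (hC : Nat.card {g : G // α g = g} ≤ p ^ e)
    (H N : Subgroup G) [N.Normal] (hNH : N ≤ H) (hH : ∀ h ∈ H, α h ∈ H) (hN : ∀ h ∈ N, α h ∈ N) {t : ℕ}
    (hcomm : ⁅H, H⁆ ≤ N) (hexp : ∀ h ∈ H, h ^ p ^ t ∈ N) : N.relIndex H ≤ p ^ (e * (p * t)) := by
  classical
  set N' := N.subgroupOf H with hN'
  set D : H → H := fun h => ⟨(h : G)⁻¹ * α h, H.mul_mem (H.inv_mem h.2) (hH _ h.2)⟩ with hD
  have hchain : ∀ i : ℕ, ∃ F : Subgroup G, N ≤ F ∧ F ≤ H ∧ Nat.card F ≤ p ^ (e * i) * Nat.card N ∧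
      ∀ h : H, ((D^[i] h : H) : G) ∈ N → (h : G) ∈ F := by
    intro i
    induction i with
    | zero => exact ⟨N, le_rfl, hNH, by simp, fun h hh => hh⟩
    | succ i ih =>
      obtain ⟨F, hNF, hFH, hFc, hF⟩ := ih
      let F' : Subgroup G :=
        { carrier := {h | h ∈ H ∧ h⁻¹ * α h ∈ F}
          one_mem' := ⟨H.one_mem, by simp⟩
          mul_mem' := fun {a b} ha hb => ⟨H.mul_mem ha.1 hb.1, by
            rw [map_mul, show (a * b)⁻¹ * (α a * α b) =
              ⁅b⁻¹, a⁻¹ * α a⁆ * (a⁻¹ * α a) * (b⁻¹ * α b) by rw [commutatorElement_def]; group]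
            exact F.mul_mem (F.mul_mem (hNF (hcomm (commutator_mem_commutator (H.inv_mem hb.1)
              (H.mul_mem (H.inv_mem ha.1) (hH a ha.1))))) ha.2) hb.2⟩
          inv_mem' := fun {a} ha => ⟨H.inv_mem ha.1, by
            rw [map_inv, inv_inv, show a * (α a)⁻¹ = ⁅a, (a⁻¹ * α a)⁻¹⁆ * (a⁻¹ * α a)⁻¹ by
              rw [commutatorElement_def]; group]
            exact F.mul_mem (hNF (hcomm (commutator_mem_commutator ha.1 (hFH (F.inv_mem ha.2))))) (F.inv_mem ha.2)⟩ }
      refine ⟨F', fun h hh => ⟨hNH hh, hNF (N.mul_mem (N.inv_mem hh) (hN h hh))⟩, fun h hh => hh.1, ?_,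
        fun h hh => ⟨h.2, hF (D h) hh⟩⟩
      refine (card_fixedMod_le α F (S := (F' : Set G)) fun h hh => hh.2).trans ?_
      refine (Nat.mul_le_mul hFc hC).trans (le_of_eq ?_)
      rw [Nat.mul_add_one, pow_add]; ring
  -- the operator is nilpotent on the section
  haveI : N'.Normal := inferInstance
  have hab : ∀ a b : H ⧸ N', a * b = b * a := fun a b => by
    induction a using QuotientGroup.induction_on with | _ a => ?_
    induction b using QuotientGroup.induction_on with | _ b => ?_
    rw [← commutatorElement_eq_one_iff_mul_comm, ← QuotientGroup.mk'_apply, ← QuotientGroup.mk'_apply,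
      ← map_commutatorElement]
    exact (QuotientGroup.eq_one_iff _).2 (mem_subgroupOf.2 (hcomm (commutator_mem_commutator a.2 b.2)))
  letI : CommGroup (H ⧸ N') := { (inferInstance : Group (H ⧸ N')) with mul_comm := hab }
  let αH : H →* H := MonoidHom.mk' (fun h => ⟨α h, hH h h.2⟩) fun a b => Subtype.ext (map_mul α (a : G) b)
  let β : AddMonoid.End (Additive (H ⧸ N')) :=
    MonoidHom.toAdditive (QuotientGroup.map N' N' αH fun h hh => mem_subgroupOf.2 (hN _ (mem_subgroupOf.1 hh)))
  have hβ : ∀ h : H, β (Additive.ofMul (h : H ⧸ N')) = Additive.ofMul ((αH h : H) : H ⧸ N') := fun h => rfl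
  have hβp : β ^ p = 1 := by
    have hit : ∀ (i : ℕ) (h : H), (β ^ i) (Additive.ofMul (h : H ⧸ N')) = Additive.ofMul ((αH^[i] h : H) : H ⧸ N') := by
      intro i
      induction i with
      | zero => intro h; rfl
      | succ i ih =>
        intro h
        rw [Function.iterate_succ_apply', pow_succ']
        show β ((β ^ i) _) = _
        rw [ih, hβ]
    have hiα : ∀ (i : ℕ) (h : H), ((αH^[i] h : H) : G) = (α ^ i) (h : G) := by
      intro i
      induction i with
      | zero => intro h; rfl
      | succ i ih => intro h; rw [Function.iterate_succ_apply', pow_succ', MulAut.mul_apply, ← ih]; rfl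
    refine AddMonoidHom.ext fun u => ?_
    obtain ⟨u, rfl⟩ := Additive.ofMul.surjective u
    induction u using QuotientGroup.induction_on with | _ u => ?_
    refine (hit p u).trans ?_
    rw [show αH^[p] u = u from Subtype.ext (by rw [hiα, hα]; rfl)]
    rfl
  obtain ⟨f, hf⟩ : ∃ f : AddMonoid.End (Additive (H ⧸ N')), (β - 1) ^ p = (p : AddMonoid.End _) * f := by
    obtain ⟨r, hr⟩ := (Commute.one_right β).neg_right.exists_add_pow_prime_eq hp.out
    rw [hβp, ← sub_eq_add_neg] at hr
    rcases hp.out.eq_two_or_odd' with h2 | hodd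
    · subst h2
      refine ⟨1 + β * -1 * r, ?_⟩
      have h2 : ((2 : ℕ) : AddMonoid.End (Additive (H ⧸ N'))) = 1 + 1 :=
        AddMonoidHom.ext fun u => (AddMonoid.End.natCast_apply 2 u).trans (two_nsmul u)
      rw [hr, neg_one_sq, mul_add, mul_one, ← mul_assoc, ← mul_assoc]
      exact congrArg (· + _) h2.symm
    · exact ⟨β * -1 * r, by rw [hr, hodd.neg_one_pow, add_neg_cancel, zero_add, ← mul_assoc, ← mul_assoc]⟩
  have hnil : (β - 1) ^ (p * t) = 0 := by
    rw [pow_mul, hf, (Nat.cast_commute p f).mul_pow, ← Nat.cast_pow]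
    refine AddMonoidHom.ext fun u => ?_
    show ((p ^ t : ℕ) : AddMonoid.End (Additive (H ⧸ N'))) ((f ^ t) u) = 0
    rw [AddMonoid.End.natCast_apply]
    obtain ⟨v, hv⟩ := QuotientGroup.mk'_surjective N' (Additive.toMul ((f ^ t) u))
    apply Additive.toMul.injective
    rw [toMul_nsmul, ← hv, ← map_pow]
    exact (QuotientGroup.eq_one_iff _).2 (mem_subgroupOf.2 (by rw [SubgroupClass.coe_pow]; exact hexp _ v.2))
  have hDit : ∀ (i : ℕ) (h : H), ((β - 1) ^ i) (Additive.ofMul (h : H ⧸ N')) =
      Additive.ofMul ((D^[i] h : H) : H ⧸ N') := by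
    intro i
    induction i with
    | zero => intro h; rfl
    | succ i ih =>
      intro h
      rw [Function.iterate_succ_apply', pow_succ']
      show (β - 1) (((β - 1) ^ i) _) = _
      rw [ih]
      show β _ - Additive.ofMul _ = _
      rw [hβ, ← ofMul_div, div_eq_mul_inv, mul_comm]
      rfl
  obtain ⟨F, hNF, hFH, hFc, hF⟩ := hchain (p * t)
  have hFH' : H ≤ F := fun h hh => hF ⟨h, hh⟩ (by
    have h1 := hDit (p * t) ⟨h, hh⟩
    rw [hnil, AddMonoid.End.zero_apply] at h1
    exact mem_subgroupOf.1 ((QuotientGroup.eq_one_iff _).1 (congrArg Additive.toMul h1).symm))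
  have h1 : Nat.card H ≤ p ^ (e * (p * t)) * Nat.card N := (card_le_of_le hFH').trans hFc
  have h2 := card_mul_index (N.subgroupOf H)
  rw [Nat.card_congr (subgroupOfEquivOfLe hNH).toEquiv] at h2
  refine Nat.le_of_mul_le_mul_right (c := Nat.card N) ?_ Nat.card_pos
  rw [mul_comm]
  show Nat.card N * (N.subgroupOf H).index ≤ _
  rw [h2]
  exact h1

end sections

section pgroup

variable {X : Type*} [Group X] [Finite X] {p : ℕ} [hp : Fact p.Prime] (P : Subgroup X)

/-- The subgroup generated by the `p ^ t`-th powers. -/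
def powSub (p t : ℕ) (H : Subgroup X) : Subgroup X := closure ((fun h => h ^ p ^ t) '' (H : Set X))

theorem pow_mem_powSub {H : Subgroup X} {t : ℕ} {h : X} (hh : h ∈ H) : h ^ p ^ t ∈ powSub p t H :=
  subset_closure ⟨h, hh, rfl⟩

omit [Finite X] hp in
theorem powSub_le (H : Subgroup X) (t : ℕ) : powSub p t H ≤ H := by
  rw [powSub, closure_le]
  rintro _ ⟨h, hh, rfl⟩
  exact H.pow_mem hh _

omit [Finite X] hp in
theorem powSub_normal (H : Subgroup X) [H.Normal] (t : ℕ) : (powSub p t H).Normal := ⟨fun w hw g => by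
  induction hw using closure_induction with
  | mem w hw =>
    obtain ⟨h, hh, rfl⟩ := hw
    exact subset_closure ⟨g * h * g⁻¹, Normal.conj_mem inferInstance h hh g, conj_pow⟩
  | one => simp
  | mul a b _ _ ha hb =>
    rw [show g * (a * b) * g⁻¹ = (g * a * g⁻¹) * (g * b * g⁻¹) by group]
    exact mul_mem ha hb
  | inv a _ ha =>
    rw [show g * a⁻¹ * g⁻¹ = (g * a * g⁻¹)⁻¹ by group]
    exact inv_mem ha⟩

/-- Abelian invariant sections of `P` of exponent dividing `p ^ t`. -/
def Sections (p t : ℕ) : Type _ :=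
  {s : Subgroup X × Subgroup X // s.1.Normal ∧ s.2.Normal ∧ s.1 ≤ P ∧ s.2 ≤ s.1 ∧ ⁅s.1, s.1⁆ ≤ s.2 ∧
    ∀ h ∈ s.1, h ^ p ^ t ∈ s.2}

/-- The part of `P` centralising these sections. -/
def secCentre (p t : ℕ) : Subgroup X :=
  P ⊓ ⨅ s : Sections P p t, (haveI := s.2.2.1
    (centralizer (s.1.1.map (QuotientGroup.mk' s.1.2) : Set (X ⧸ s.1.2))).comap (QuotientGroup.mk' s.1.2))

theorem secCentre_normal [P.Normal] (t : ℕ) : (secCentre P p t).Normal := by
  haveI : (⨅ s : Sections P p t, (haveI := s.2.2.1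
      (centralizer (s.1.1.map (QuotientGroup.mk' s.1.2) : Set (X ⧸ s.1.2))).comap (QuotientGroup.mk' s.1.2))).Normal :=
    normal_iInf_normal fun s => by
      haveI := s.2.1
      haveI := s.2.2.1
      haveI := (inferInstance : s.1.1.Normal).map (QuotientGroup.mk' s.1.2) (QuotientGroup.mk'_surjective _)
      infer_instance
  exact Subgroup.normal_inf_normal _ _

theorem commutator_le_of_section {H A S : Subgroup X} [A.Normal] [S.Normal] {t : ℕ} (hAP : A ≤ P)
    (hH : H ≤ secCentre P p t) (hSA : S ≤ A) (hA : ⁅A, A⁆ ≤ S) (hexp : ∀ a ∈ A, a ^ p ^ t ∈ S) :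
    ⁅A, H⁆ ≤ S := by
  rw [commutator_le]
  intro a ha h hh
  have h1 := mem_comap.1 (mem_iInf.1 (hH hh).2 ⟨(A, S), inferInstance, inferInstance, hAP, hSA, hA, hexp⟩)
  have h2 := mem_centralizer_iff.1 h1 _ (mem_map_of_mem _ ha)
  rw [← QuotientGroup.eq_one_iff, ← QuotientGroup.mk'_apply, map_commutatorElement,
    commutatorElement_eq_one_iff_mul_comm]
  exact h2

/-- Normal subgroups of the section centre are abelian modulo powers and central there. -/
theorem commutator_le_powSub (hX : IsPGroup p X) (H : Subgroup X) [H.Normal] {t : ℕ}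
    (hH : H ≤ secCentre P p t) : ⁅H, H⁆ ≤ powSub p t H ∧ ⁅H, secCentre P p t⁆ ≤ powSub p t H := by
  classical
  set S := powSub p t H with hS
  haveI hSn : S.Normal := powSub_normal H t
  have hSS : ⁅S, S⁆ ≤ S := commutator_le_self S
  obtain ⟨A, hmax⟩ := (Set.toFinite {A : Subgroup X | A.Normal ∧ S ≤ A ∧ A ≤ H ∧ ⁅A, A⁆ ≤ S}).exists_maximal
    ⟨S, hSn, le_rfl, powSub_le H t, hSS⟩
  obtain ⟨hAn, hSA, hAH, hA⟩ := hmax.1
  haveI := hAn
  have hHP : H ≤ P := hH.trans inf_le_left
  have hcen := commutator_le_of_section P (hAH.trans hHP) le_rfl hSA hA fun a ha => pow_mem_powSub (hAH ha)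
  suffices hAeq : A = H by
    subst hAeq
    exact ⟨hA, hcen⟩
  by_contra hne
  set π := QuotientGroup.mk' A with hπ
  haveI : (H.map π).Normal := Normal.map inferInstance π (QuotientGroup.mk'_surjective A)
  haveI := (hX.to_quotient A).isNilpotent
  have hnb : H.map π ≠ ⊥ := fun h => hne (le_antisymm hAH (by
    rwa [Subgroup.map_eq_bot_iff, QuotientGroup.ker_mk'] at h))
  obtain ⟨⟨u, hu⟩, hu1⟩ := Subgroup.ne_bot_iff_exists_ne_one.1 (Core.inf_center_ne_bot hnb)
  obtain ⟨⟨h, hh, rfl⟩, hcent⟩ := hu
  have hhA : h ∉ A := fun hA' => hu1 (Subtype.ext ((QuotientGroup.eq_one_iff h).2 hA'))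
  set B := A ⊔ zpowers h with hB
  haveI hBn : B.Normal := ⟨fun b hb g => by
    have h1 : B ≤ B.comap (MulAut.conj g).toMonoidHom := by
      refine sup_le (fun a ha => mem_sup_left (hAn.conj_mem a ha g)) (zpowers_le.2 ?_)
      show g * h * g⁻¹ ∈ B
      have hc : π g * π h = π h * π g := mem_center_iff.1 hcent (π g)
      have h2 : ⁅g, h⁆ ∈ A := by
        rw [← QuotientGroup.eq_one_iff, ← QuotientGroup.mk'_apply, map_commutatorElement,
          commutatorElement_eq_one_iff_mul_comm]
        exact hc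
      rw [show g * h * g⁻¹ = ⁅g, h⁆ * h by rw [commutatorElement_def]; group]
      exact mul_mem_sup h2 (mem_zpowers h)
    exact h1 hb⟩
  have hBH : B ≤ H := sup_le hAH (zpowers_le.2 hh)
  have hBB : ⁅B, B⁆ ≤ S := by
    set θ := QuotientGroup.mk' S with hθ
    have hc : ∀ a ∈ A, ∀ b ∈ H, Commute (θ a) (θ b) := fun a ha b hb => by
      rw [← commutatorElement_eq_one_iff_commute, ← map_commutatorElement]
      exact (QuotientGroup.eq_one_iff _).2 (hcen (commutator_mem_commutator ha (hH hb)))
    have hhh : ∀ b ∈ B, Commute (θ b) (θ h) := fun b hb => by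
      obtain ⟨a, ha, c, hc', rfl⟩ := mem_sup_of_normal_left.1 hb
      obtain ⟨i, rfl⟩ := mem_zpowers_iff.1 hc'
      rw [map_mul, map_zpow]
      exact (hc a ha h hh).mul_left ((Commute.refl _).zpow_left i)
    rw [commutator_le]
    intro a ha b hb
    rw [← QuotientGroup.eq_one_iff, ← QuotientGroup.mk'_apply, map_commutatorElement,
      commutatorElement_eq_one_iff_commute]
    obtain ⟨a', ha', c, hc', rfl⟩ := mem_sup_of_normal_left.1 hb
    obtain ⟨i, rfl⟩ := mem_zpowers_iff.1 hc'
    rw [map_mul, map_zpow]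
    exact (hc a' ha' a (hBH ha)).symm.mul_right ((hhh a ha).zpow_right i)
  exact hhA ((hmax.2 ⟨hBn, hSA.trans le_sup_left, hBH, hBB⟩ le_sup_left) (mem_sup_right (mem_zpowers h)))

/-- A `p`-group in a `p`-group with an element of few fixed points has bounded derived length. -/
theorem derivedSeries_pgroup (hX : IsPGroup p X) [P.Normal] (x0 : X) (hx0 : x0 ^ p ∈ centralizer (P : Set X))
    {e : ℕ} (hC : Nat.card {g : P // MulAut.conjNormal x0 g = g} ≤ p ^ e) :
    derivedSeries P ((p ^ (e * (p * ((e + 1) * (classBound p (2 ^ (p - 1) - 1) + 1) + 1)))).factorial +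
      (classBound p (2 ^ (p - 1) - 1) + 1)) = ⊥ := by
  classical
  set c := classBound p (2 ^ (p - 1) - 1) with hc
  set N0 := (e + 1) * (c + 1) with hN0
  set t := N0 + 1 with ht
  set L := (p ^ (e * (p * t))).factorial with hL
  set Q := secCentre P p t with hQ
  haveI hQn : Q.Normal := secCentre_normal P t
  have hQP : Q ≤ P := inf_le_left
  have hαp : ∀ K : Subgroup X, ∀ hKn : K.Normal, K ≤ P → (MulAut.conjNormal x0 : MulAut K) ^ p = 1 := by
    intro K hKn hK
    rw [← map_pow]
    refine MulEquiv.ext fun k => Subtype.ext ?_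
    rw [MulAut.conjNormal_apply, ← mem_centralizer_iff.1 hx0 k (hK k.2), mul_inv_cancel_right]
    rfl
  haveI : Group.IsNilpotent P := (hX.to_subgroup P).isNilpotent
  -- the bottom part
  refine derivedSeries_add_eq_bot (Q.subgroupOf P) ?_ ?_
  · intro g hg
    refine mem_subgroupOf.2 ⟨g.2, mem_iInf.2 fun s => ?_⟩
    obtain ⟨⟨H, N⟩, hHn, hNn, hHP, hNH, hcomm, hexp⟩ := s
    dsimp only at hHn hNn hHP hNH hcomm hexp ⊢
    set A := H.map (QuotientGroup.mk' N) with hA
    haveI : A.Normal := hHn.map _ (QuotientGroup.mk'_surjective N)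
    have hcard : Nat.card A ≤ p ^ (e * (p * t)) := by
      have h1 := relIndex_le_of_section (MulAut.conjNormal x0 : MulAut P) (hαp P inferInstance le_rfl) hC
        (H.subgroupOf P) (N.subgroupOf P) (fun _ hn => hNH hn)
        (fun h hh => mem_subgroupOf.2 (by rw [MulAut.conjNormal_apply]; exact hHn.conj_mem _ hh x0))
        (fun h hh => mem_subgroupOf.2 (by rw [MulAut.conjNormal_apply]; exact hNn.conj_mem _ hh x0))
        (t := t) (commutator_le.2 fun a ha b hb => mem_subgroupOf.2 (by
          exact hcomm (commutator_mem_commutator (mem_subgroupOf.1 ha) (mem_subgroupOf.1 hb))))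
        (fun h hh => mem_subgroupOf.2 (by rw [SubgroupClass.coe_pow]; exact hexp _ hh))
      rw [Subgroup.relIndex_subgroupOf hHP] at h1
      conv at h1 => lhs; arg 1; rw [← QuotientGroup.ker_mk' N]
      rwa [relIndex_ker] at h1
    let φ : P →* MulAut A := (MulAut.conjNormal (H := A)).comp ((QuotientGroup.mk' N).comp P.subtype)
    have hker := derivedSeries_le_ker φ (card_perm_le hcard) hg
    rw [mem_comap, mem_centralizer_iff]
    intro a ha
    have h1 : ((MulAut.conjNormal (QuotientGroup.mk' N (g : X)) ⟨a, ha⟩ : A) : X ⧸ N) = a :=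
      congrArg Subtype.val (DFunLike.congr_fun (MonoidHom.mem_ker.1 hker) ⟨a, ha⟩)
    rw [MulAut.conjNormal_apply] at h1
    exact (mul_inv_eq_iff_eq_mul.1 h1).symm
  -- the section centre is nilpotent of bounded class
  have e1 : derivedSeries Q (c + 1) = ⊥ := by
    have hQp : IsPGroup p Q := hX.to_subgroup Q
    set H := (lcs Q c).map Q.subtype with hH
    haveI : H.Normal := ConjAct.normal_of_characteristic_of_normal
    have hHQ : H ≤ Q := map_subtype_le _
    have hnext : (lcs Q (c + 1)).map Q.subtype ≤ powSub p t H := by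
      refine le_trans ?_ (commutator_le_powSub P hX H hHQ).2
      show (⁅lcs Q c, (⊤ : Subgroup Q)⁆ : Subgroup Q).map Q.subtype ≤ _
      rw [map_commutator, ← MonoidHom.range_eq_map, range_subtype]
    have hCQ : Nat.card {g : Q // MulAut.conjNormal x0 g = g} ≤ p ^ e := by
      refine le_trans (Nat.card_le_card_of_injective
        (fun g => (⟨⟨((g : Q) : X), hQP (g : Q).2⟩, Subtype.ext (by
          have h := congrArg Subtype.val g.2
          rw [MulAut.conjNormal_apply] at h ⊢
          exact h)⟩ : {g : P // MulAut.conjNormal x0 g = g})) fun a b hab => ?_) hC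
      exact Subtype.ext (Subtype.ext (congrArg (fun z : {g : P // MulAut.conjNormal x0 g = g} => ((z : P) : X)) hab))
    set J := powSub p N0 H with hJ
    have hJnext : J ≤ (lcs Q (c + 1)).map Q.subtype := by
      rw [hJ, powSub, closure_le]
      rintro _ ⟨_, ⟨g, hg, rfl⟩, rfl⟩
      exact ⟨g ^ p ^ N0, pow_mem_lcs_succ (MulAut.conjNormal x0 : MulAut Q) hQp (hαp Q hQn hQP) hCQ hg, rfl⟩
    have hJfr : powSub p t H ≤ (frattini J).map J.subtype := by
      rw [powSub, closure_le]
      rintro _ ⟨g, hg, rfl⟩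
      refine ⟨(⟨g ^ p ^ N0, pow_mem_powSub hg⟩ : J) ^ p, Core.pow_mem_frattini (hX.to_subgroup J) _, ?_⟩
      show (g ^ p ^ N0) ^ p = g ^ p ^ t
      rw [← pow_mul, ← pow_succ]
    have hJbot : J = ⊥ := by
      by_contra hne
      haveI : Nontrivial J := (nontrivial_iff_ne_bot J).2 hne
      obtain ⟨M, hM, -⟩ := (eq_top_or_exists_le_coatom (⊥ : Subgroup J)).resolve_left bot_ne_top
      refine hM.1 (top_le_iff.1 ?_)
      intro j _
      obtain ⟨j', hj', he⟩ := hJfr (hnext (hJnext j.2))
      rw [Subtype.ext he] at hj'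
      exact frattini_le_coatom hM hj'
    have hbot : lcs Q (c + 1) = ⊥ := by
      have h1 : (lcs Q (c + 1)).map Q.subtype ≤ J := hnext.trans (hJfr.trans (map_subtype_le _))
      rw [hJbot, le_bot_iff] at h1
      exact ((Subgroup.map_injective Q.subtype_injective).eq_iff' (Subgroup.map_bot _)).1 h1
    exact le_bot_iff.1 ((Subgroup.derived_le_lower_central _).trans hbot.le)
  rw [eq_bot_iff]
  intro g hg
  have h2 := map_derivedSeries_le_derivedSeries
    ((subgroupOfEquivOfLe hQP).toMonoidHom) (c + 1) ⟨g, hg, rfl⟩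
  rw [e1, mem_bot] at h2
  exact mem_bot.2 ((subgroupOfEquivOfLe hQP).injective (h2.trans (map_one _).symm))

end pgroup

end Cfsg.Agent.AlperinBound
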